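import Mathlib.CategoryTheory.Monoidal.NaturalTransformation
import Mathlib.CategoryTheory.Monoidal.Skeleton
import Mathlib.CategoryTheory.Monoidal.Braided.Basic
import Mathlib.CategoryTheory.Monoidal.CoherenceLemmas
import Mathlib.CategoryTheory.Groupoid
import Mathlib.CategoryTheory.Endomorphism
import Mathlib.Tactic.CategoryTheory.Monoidal.Basic

/-!
# The action of the endomorphisms of the unit on the objects of a monoidal category
-/

set_option autoImplicit false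
universe v u

open CategoryTheory MonoidalCategory

namespace K850.Act

variable {D : Type u} [Category.{v} D] [MonoidalCategory D]

/-- the action of an endomorphism of the unit on an object -/
def act (Z : D) (φ : 𝟙_ D ⟶ 𝟙_ D) : Z ⟶ Z := (λ_ Z).inv ≫ (φ ▷ Z) ≫ (λ_ Z).hom

lemma act_id (Z : D) : act Z (𝟙 (𝟙_ D)) = 𝟙 Z := by simp [act]

lemma act_comp (Z : D) (φ ψ : 𝟙_ D ⟶ 𝟙_ D) : act Z (φ ≫ ψ) = act Z φ ≫ act Z ψ := by
  simp [act]

lemma act_natural {Z W : D} (f : Z ⟶ W) (φ : 𝟙_ D ⟶ 𝟙_ D) : act Z φ ≫ f = f ≫ act W φ := by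
  simp only [act, Category.assoc]
  rw [← leftUnitor_naturality, ← whisker_exchange_assoc, ← leftUnitor_inv_naturality_assoc]

lemma act_unit (φ : 𝟙_ D ⟶ 𝟙_ D) : act (𝟙_ D) φ = φ := by
  rw [act, MonoidalCategory.unitors_equal, rightUnitor_naturality,
    MonoidalCategory.unitors_inv_equal, Iso.inv_hom_id_assoc]

lemma act_whiskerRight (Z W : D) (φ : 𝟙_ D ⟶ 𝟙_ D) : act Z φ ▷ W = act (Z ⊗ W) φ := by
  simp only [act, comp_whiskerRight, leftUnitor_tensor_hom, leftUnitor_tensor_inv,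
    whiskerRight_tensor, Category.assoc, Iso.hom_inv_id_assoc]

lemma act_whiskerLeft [BraidedCategory D] (Z W : D) (φ : 𝟙_ D ⟶ 𝟙_ D) :
    Z ◁ act W φ = act (Z ⊗ W) φ := by
  have h := BraidedCategory.braiding_naturality_right Z (act W φ)
  rw [act_whiskerRight, ← act_natural] at h
  exact (cancel_mono _).mp h

lemma act_tensor [BraidedCategory D] (Z W : D) (φ ψ : 𝟙_ D ⟶ 𝟙_ D) :
    act Z φ ⊗ₘ act W ψ = act (Z ⊗ W) (φ ≫ ψ) := by
  rw [MonoidalCategory.tensorHom_def, act_whiskerRight, act_whiskerLeft, act_comp]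

lemma act_tensor' [BraidedCategory D] (Z W : D) (φ ψ : 𝟙_ D ⟶ 𝟙_ D) :
    act Z φ ⊗ₘ act W ψ = act (Z ⊗ W) (ψ ≫ φ) := by
  rw [MonoidalCategory.tensorHom_def', act_whiskerRight, act_whiskerLeft, act_comp]

lemma act_bijective (Z : D) (h : (tensorRight Z).IsEquivalence) :
    Function.Bijective (act Z) := by
  have ha : Function.Bijective (fun φ : 𝟙_ D ⟶ 𝟙_ D => φ ▷ Z) :=
    (Functor.FullyFaithful.ofFullyFaithful (tensorRight Z)).map_bijective (𝟙_ D) (𝟙_ D)
  have hc : Function.Bijective (fun ψ : 𝟙_ D ⊗ Z ⟶ 𝟙_ D ⊗ Z => (λ_ Z).inv ≫ ψ ≫ (λ_ Z).hom) := by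
    constructor
    · intro ψ ψ' h
      simpa using h
    · intro ψ
      exact ⟨(λ_ Z).hom ≫ ψ ≫ (λ_ Z).inv, by simp⟩
  exact hc.comp ha

end K850.Act
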