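import Mathlib.CategoryTheory.Monoidal.Braided.Basic
import Mathlib.CategoryTheory.Monoidal.NaturalTransformation
import Mathlib.CategoryTheory.Groupoid
import Mathlib.CategoryTheory.Equivalence
import Mathlib.CategoryTheory.Whiskering

/-!
# The free commutative Picard category on a symmetric monoidal groupoid

The objects are formal expressions in the objects of `A`, a unit, tensor products and inverses; the
morphisms are formal expressions modulo the relations which make the result a symmetric monoidal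
groupoid with inverse objects, together with a symmetric monoidal functor from `A`.
-/

set_option autoImplicit false

universe v u

open CategoryTheory MonoidalCategory

namespace K850.FreePic

/-- Objects of the free Picard category. -/
inductive Obj (A : Type u) : Type u
  | of : A → Obj A
  | unit : Obj A
  | tensor : Obj A → Obj A → Obj A
  | inv : Obj A → Obj A

variable {A : Type u} [Category.{v} A] [MonoidalCategory A]

/-- Formal morphisms of the free Picard category. -/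
inductive PreHom : Obj A → Obj A → Type (max u v)
  | id (X : Obj A) : PreHom X X
  | comp {X Y Z : Obj A} (f : PreHom X Y) (g : PreHom Y Z) : PreHom X Z
  | symm {X Y : Obj A} (f : PreHom X Y) : PreHom Y X
  | tensor {X₁ Y₁ X₂ Y₂ : Obj A} (f : PreHom X₁ Y₁) (g : PreHom X₂ Y₂) :
      PreHom (X₁.tensor X₂) (Y₁.tensor Y₂)
  | assoc (X Y Z : Obj A) : PreHom ((X.tensor Y).tensor Z) (X.tensor (Y.tensor Z))
  | lunit (X : Obj A) : PreHom (Obj.unit.tensor X) X
  | runit (X : Obj A) : PreHom (X.tensor Obj.unit) X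
  | braid (X Y : Obj A) : PreHom (X.tensor Y) (Y.tensor X)
  | cancel (X : Obj A) : PreHom (X.tensor X.inv) Obj.unit
  | map {a b : A} (f : a ⟶ b) : PreHom (Obj.of a) (Obj.of b)
  | unitOf : PreHom Obj.unit (Obj.of (𝟙_ A))
  | mulOf (a b : A) : PreHom ((Obj.of a).tensor (Obj.of b)) (Obj.of (a ⊗ b))

variable [BraidedCategory A]

/-- The relations between the formal morphisms. -/
inductive Rel : ∀ {X Y : Obj A}, PreHom X Y → PreHom X Y → Prop
  | refl {X Y : Obj A} (f : PreHom X Y) : Rel f f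
  | symm {X Y : Obj A} (f g : PreHom X Y) : Rel f g → Rel g f
  | trans {X Y : Obj A} (f g h : PreHom X Y) : Rel f g → Rel g h → Rel f h
  | comp_congr {X Y Z : Obj A} (f f' : PreHom X Y) (g g' : PreHom Y Z) :
      Rel f f' → Rel g g' → Rel (f.comp g) (f'.comp g')
  | symm_congr {X Y : Obj A} (f f' : PreHom X Y) : Rel f f' → Rel f.symm f'.symm
  | tensor_congr {X₁ Y₁ X₂ Y₂ : Obj A} (f f' : PreHom X₁ Y₁) (g g' : PreHom X₂ Y₂) :
      Rel f f' → Rel g g' → Rel (f.tensor g) (f'.tensor g')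
  | id_comp {X Y : Obj A} (f : PreHom X Y) : Rel ((PreHom.id X).comp f) f
  | comp_id {X Y : Obj A} (f : PreHom X Y) : Rel (f.comp (PreHom.id Y)) f
  | comp_assoc {X Y Z W : Obj A} (f : PreHom X Y) (g : PreHom Y Z) (h : PreHom Z W) :
      Rel ((f.comp g).comp h) (f.comp (g.comp h))
  | symm_comp {X Y : Obj A} (f : PreHom X Y) : Rel (f.symm.comp f) (PreHom.id Y)
  | comp_symm {X Y : Obj A} (f : PreHom X Y) : Rel (f.comp f.symm) (PreHom.id X)
  | tensor_id (X Y : Obj A) : Rel ((PreHom.id X).tensor (PreHom.id Y)) (PreHom.id (X.tensor Y))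
  | tensor_comp {X₁ Y₁ Z₁ X₂ Y₂ Z₂ : Obj A} (f₁ : PreHom X₁ Y₁) (f₂ : PreHom X₂ Y₂)
      (g₁ : PreHom Y₁ Z₁) (g₂ : PreHom Y₂ Z₂) :
      Rel ((f₁.tensor f₂).comp (g₁.tensor g₂)) ((f₁.comp g₁).tensor (f₂.comp g₂))
  | assoc_nat {X₁ Y₁ X₂ Y₂ X₃ Y₃ : Obj A} (f₁ : PreHom X₁ Y₁) (f₂ : PreHom X₂ Y₂)
      (f₃ : PreHom X₃ Y₃) :
      Rel (((f₁.tensor f₂).tensor f₃).comp (PreHom.assoc Y₁ Y₂ Y₃))
        ((PreHom.assoc X₁ X₂ X₃).comp (f₁.tensor (f₂.tensor f₃)))
  | lunit_nat {X Y : Obj A} (f : PreHom X Y) :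
      Rel (((PreHom.id Obj.unit).tensor f).comp (PreHom.lunit Y)) ((PreHom.lunit X).comp f)
  | runit_nat {X Y : Obj A} (f : PreHom X Y) :
      Rel ((f.tensor (PreHom.id Obj.unit)).comp (PreHom.runit Y)) ((PreHom.runit X).comp f)
  | pentagon (W X Y Z : Obj A) :
      Rel (((PreHom.assoc W X Y).tensor (PreHom.id Z)).comp
          ((PreHom.assoc W (X.tensor Y) Z).comp ((PreHom.id W).tensor (PreHom.assoc X Y Z))))
        ((PreHom.assoc (W.tensor X) Y Z).comp (PreHom.assoc W X (Y.tensor Z)))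
  | triangle (X Y : Obj A) :
      Rel ((PreHom.assoc X Obj.unit Y).comp ((PreHom.id X).tensor (PreHom.lunit Y)))
        ((PreHom.runit X).tensor (PreHom.id Y))
  | braid_nat {X₁ Y₁ X₂ Y₂ : Obj A} (f : PreHom X₁ Y₁) (g : PreHom X₂ Y₂) :
      Rel ((f.tensor g).comp (PreHom.braid Y₁ Y₂)) ((PreHom.braid X₁ X₂).comp (g.tensor f))
  | hexagon (X Y Z : Obj A) :
      Rel ((PreHom.assoc X Y Z).comp ((PreHom.braid X (Y.tensor Z)).comp (PreHom.assoc Y Z X)))
        (((PreHom.braid X Y).tensor (PreHom.id Z)).comp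
          ((PreHom.assoc Y X Z).comp ((PreHom.id Y).tensor (PreHom.braid X Z))))
  | hexagon' (X Y Z : Obj A) :
      Rel ((PreHom.assoc X Y Z).symm.comp
          ((PreHom.braid (X.tensor Y) Z).comp (PreHom.assoc Z X Y).symm))
        (((PreHom.id X).tensor (PreHom.braid Y Z)).comp
          ((PreHom.assoc X Z Y).symm.comp ((PreHom.braid X Z).tensor (PreHom.id Y))))
  | symmetry (X Y : Obj A) : Rel ((PreHom.braid X Y).comp (PreHom.braid Y X)) (PreHom.id _)
  | map_id (a : A) : Rel (PreHom.map (𝟙 a)) (PreHom.id (Obj.of a))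
  | map_comp {a b c : A} (f : a ⟶ b) (g : b ⟶ c) :
      Rel (PreHom.map (f ≫ g)) ((PreHom.map f).comp (PreHom.map g))
  | mul_nat {a b a' b' : A} (f : a ⟶ b) (g : a' ⟶ b') :
      Rel (((PreHom.map f).tensor (PreHom.map g)).comp (PreHom.mulOf b b'))
        ((PreHom.mulOf a a').comp (PreHom.map (f ⊗ₘ g)))
  | mul_assoc (a b c : A) :
      Rel (((PreHom.mulOf a b).tensor (PreHom.id (Obj.of c))).comp
          ((PreHom.mulOf (a ⊗ b) c).comp (PreHom.map (α_ a b c).hom)))
        ((PreHom.assoc (Obj.of a) (Obj.of b) (Obj.of c)).comp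
          (((PreHom.id (Obj.of a)).tensor (PreHom.mulOf b c)).comp (PreHom.mulOf a (b ⊗ c))))
  | mul_lunit (a : A) :
      Rel (PreHom.lunit (Obj.of a))
        ((PreHom.unitOf.tensor (PreHom.id (Obj.of a))).comp
          ((PreHom.mulOf (𝟙_ A) a).comp (PreHom.map (λ_ a).hom)))
  | mul_runit (a : A) :
      Rel (PreHom.runit (Obj.of a))
        (((PreHom.id (Obj.of a)).tensor PreHom.unitOf).comp
          ((PreHom.mulOf a (𝟙_ A)).comp (PreHom.map (ρ_ a).hom)))
  | mul_braid (a b : A) :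
      Rel ((PreHom.mulOf a b).comp (PreHom.map (β_ a b).hom))
        ((PreHom.braid (Obj.of a) (Obj.of b)).comp (PreHom.mulOf b a))

/-- The setoid of formal morphisms. -/
def homSetoid (X Y : Obj A) : Setoid (PreHom X Y) where
  r := Rel
  iseqv := ⟨Rel.refl, fun h => Rel.symm _ _ h, fun h h' => Rel.trans _ _ _ h h'⟩

/-- Morphisms of the free Picard category. -/
def Mor (X Y : Obj A) : Type (max u v) := Quotient (homSetoid X Y)

/-- The class of a formal morphism. -/
def mk {X Y : Obj A} (f : PreHom X Y) : Mor X Y := Quotient.mk (homSetoid X Y) f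

lemma mk_eq {X Y : Obj A} {f g : PreHom X Y} (h : Rel f g) : mk f = mk g := Quotient.sound h

lemma mk_surj {X Y : Obj A} (f : Mor X Y) : ∃ g, f = mk g := by
  induction f using Quotient.inductionOn with
  | _ f => exact ⟨f, rfl⟩

/-- Composition. -/
def Mor.comp {X Y Z : Obj A} (f : Mor X Y) (g : Mor Y Z) : Mor X Z :=
  Quotient.map₂ PreHom.comp (fun _ _ h _ _ h' => Rel.comp_congr _ _ _ _ h h') f g

/-- Tensor product of morphisms. -/
def Mor.tensor {X₁ Y₁ X₂ Y₂ : Obj A} (f : Mor X₁ Y₁) (g : Mor X₂ Y₂) :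
    Mor (X₁.tensor X₂) (Y₁.tensor Y₂) :=
  Quotient.map₂ PreHom.tensor (fun _ _ h _ _ h' => Rel.tensor_congr _ _ _ _ h h') f g

lemma mk_comp' {X Y Z : Obj A} (f : PreHom X Y) (g : PreHom Y Z) :
    (mk f).comp (mk g) = mk (f.comp g) := rfl

lemma mk_tensor' {X₁ Y₁ X₂ Y₂ : Obj A} (f : PreHom X₁ Y₁) (g : PreHom X₂ Y₂) :
    (mk f).tensor (mk g) = mk (f.tensor g) := rfl

instance : Category.{max u v} (Obj A) where
  Hom X Y := Mor X Y
  id X := mk (PreHom.id X)
  comp f g := f.comp g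
  id_comp f := by obtain ⟨f, rfl⟩ := mk_surj f; exact mk_eq (Rel.id_comp f)
  comp_id f := by obtain ⟨f, rfl⟩ := mk_surj f; exact mk_eq (Rel.comp_id f)
  assoc f g h := by
    obtain ⟨f, rfl⟩ := mk_surj f
    obtain ⟨g, rfl⟩ := mk_surj g
    obtain ⟨h, rfl⟩ := mk_surj h
    exact mk_eq (Rel.comp_assoc f g h)

/-- The class of a formal morphism, as a morphism of the category. -/
abbrev hm {X Y : Obj A} (f : PreHom X Y) : X ⟶ Y := mk f

lemma hm_eq {X Y : Obj A} {f g : PreHom X Y} (h : Rel f g) : hm f = hm g := Quotient.sound h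

lemma hm_surj {X Y : Obj A} (f : X ⟶ Y) : ∃ g, f = hm g := mk_surj f

/-- The isomorphism given by a formal morphism. -/
def isoOf {X Y : Obj A} (f : PreHom X Y) : X ≅ Y where
  hom := hm f
  inv := hm f.symm
  hom_inv_id := mk_eq (Rel.comp_symm f)
  inv_hom_id := mk_eq (Rel.symm_comp f)

instance : MonoidalCategoryStruct (Obj A) where
  tensorObj X Y := X.tensor Y
  whiskerLeft X _ _ f := Mor.tensor (mk (PreHom.id X)) f
  whiskerRight f Y := Mor.tensor f (mk (PreHom.id Y))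
  tensorHom f g := Mor.tensor f g
  tensorUnit := Obj.unit
  associator X Y Z := isoOf (PreHom.assoc X Y Z)
  leftUnitor X := isoOf (PreHom.lunit X)
  rightUnitor X := isoOf (PreHom.runit X)

instance : MonoidalCategory (Obj A) :=
  MonoidalCategory.ofTensorHom
    (id_tensorHom_id := fun X Y => mk_eq (Rel.tensor_id X Y))
    (id_tensorHom := fun X _ _ f => rfl)
    (tensorHom_id := fun f Y => rfl)
    (tensorHom_comp_tensorHom := by
      intro X₁ Y₁ Z₁ X₂ Y₂ Z₂ f₁ f₂ g₁ g₂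
      obtain ⟨f₁, rfl⟩ := mk_surj f₁
      obtain ⟨f₂, rfl⟩ := mk_surj f₂
      obtain ⟨g₁, rfl⟩ := mk_surj g₁
      obtain ⟨g₂, rfl⟩ := mk_surj g₂
      exact mk_eq (Rel.tensor_comp f₁ f₂ g₁ g₂))
    (associator_naturality := by
      intro X₁ X₂ X₃ Y₁ Y₂ Y₃ f₁ f₂ f₃
      obtain ⟨f₁, rfl⟩ := mk_surj f₁
      obtain ⟨f₂, rfl⟩ := mk_surj f₂
      obtain ⟨f₃, rfl⟩ := mk_surj f₃
      exact mk_eq (Rel.assoc_nat f₁ f₂ f₃))
    (leftUnitor_naturality := by
      intro X Y f
      obtain ⟨f, rfl⟩ := mk_surj f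
      exact mk_eq (Rel.lunit_nat f))
    (rightUnitor_naturality := by
      intro X Y f
      obtain ⟨f, rfl⟩ := mk_surj f
      exact mk_eq (Rel.runit_nat f))
    (pentagon := fun W X Y Z => mk_eq (Rel.pentagon W X Y Z))
    (triangle := fun X Y => mk_eq (Rel.triangle X Y))

lemma hm_comp {X Y Z : Obj A} (f : PreHom X Y) (g : PreHom Y Z) :
    hm (f.comp g) = hm f ≫ hm g := rfl

lemma hm_id (X : Obj A) : hm (PreHom.id X) = 𝟙 X := rfl

lemma hm_tensor {X₁ Y₁ X₂ Y₂ : Obj A} (f : PreHom X₁ Y₁) (g : PreHom X₂ Y₂) :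
    hm (f.tensor g) = (hm f ⊗ₘ hm g : (X₁ ⊗ X₂ : Obj A) ⟶ Y₁ ⊗ Y₂) := rfl

instance : BraidedCategory (Obj A) where
  braiding X Y := isoOf (PreHom.braid X Y)
  braiding_naturality_right := by
    intro X Y Z f
    obtain ⟨f, rfl⟩ := mk_surj f
    exact mk_eq (Rel.braid_nat (PreHom.id X) f)
  braiding_naturality_left := by
    intro X Y f Z
    obtain ⟨f, rfl⟩ := mk_surj f
    exact mk_eq (Rel.braid_nat f (PreHom.id Z))
  hexagon_forward X Y Z := mk_eq (Rel.hexagon X Y Z)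
  hexagon_reverse X Y Z := mk_eq (Rel.hexagon' X Y Z)

instance : SymmetricCategory (Obj A) where
  symmetry X Y := mk_eq (Rel.symmetry X Y)

instance : IsGroupoid (Obj A) where
  all_isIso {X Y} f := by
    obtain ⟨f, rfl⟩ := hm_surj f
    exact (isoOf f).isIso_hom

variable (A) in
/-- The canonical functor. -/
def incl : A ⥤ Obj A where
  obj a := Obj.of a
  map f := hm (PreHom.map f)
  map_id a := mk_eq (Rel.map_id a)
  map_comp f g := mk_eq (Rel.map_comp f g)

instance : (incl A).LaxMonoidal where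
  ε := hm PreHom.unitOf
  μ a b := hm (PreHom.mulOf a b)
  μ_natural_left {a b} f c := by
    have h : hm (((PreHom.map f).tensor (PreHom.map (𝟙 c))).comp (PreHom.mulOf b c)) =
        hm ((PreHom.mulOf a c).comp (PreHom.map (f ⊗ₘ 𝟙 c))) := mk_eq (Rel.mul_nat f (𝟙 c))
    rw [tensorHom_id, hm_comp, hm_comp, hm_tensor, hm_eq (Rel.map_id c)] at h
    exact h
  μ_natural_right {a b} c f := by
    have h : hm (((PreHom.map (𝟙 c)).tensor (PreHom.map f)).comp (PreHom.mulOf c b)) =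
        hm ((PreHom.mulOf c a).comp (PreHom.map (𝟙 c ⊗ₘ f))) := mk_eq (Rel.mul_nat (𝟙 c) f)
    rw [id_tensorHom, hm_comp, hm_comp, hm_tensor, hm_eq (Rel.map_id c)] at h
    exact h
  associativity a b c := mk_eq (Rel.mul_assoc a b c)
  left_unitality a := mk_eq (Rel.mul_lunit a)
  right_unitality a := mk_eq (Rel.mul_runit a)

instance : (incl A).LaxBraided where
  braided a b := mk_eq (Rel.mul_braid a b)

/-- the cancellation isomorphism -/
def cancelIso (X : Obj A) : X ⊗ X.inv ≅ 𝟙_ (Obj A) := isoOf (PreHom.cancel X)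

section

universe v₁ u₁
variable {C : Type u₁} [Category.{v₁} C] [MonoidalCategory C]

lemma tensorLeft_isEquivalence {X Y : C} (e : X ⊗ Y ≅ 𝟙_ C) (e' : Y ⊗ X ≅ 𝟙_ C) :
    (tensorLeft X).IsEquivalence := by
  have i1 : tensorLeft X ⋙ tensorLeft Y ≅ 𝟭 C :=
    (tensorLeftTensor Y X).symm ≪≫ (tensoringLeft C).mapIso e' ≪≫ leftUnitorNatIso C
  have i2 : tensorLeft Y ⋙ tensorLeft X ≅ 𝟭 C :=
    (tensorLeftTensor X Y).symm ≪≫ (tensoringLeft C).mapIso e ≪≫ leftUnitorNatIso C
  exact (CategoryTheory.Equivalence.mk (tensorLeft X) (tensorLeft Y) i1.symm i2).isEquivalence_functor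

lemma tensorRight_isEquivalence {X Y : C} (e : X ⊗ Y ≅ 𝟙_ C) (e' : Y ⊗ X ≅ 𝟙_ C) :
    (tensorRight X).IsEquivalence := by
  have i1 : tensorRight X ⋙ tensorRight Y ≅ 𝟭 C :=
    (tensorRightTensor X Y).symm ≪≫ (tensoringRight C).mapIso e ≪≫ rightUnitorNatIso C
  have i2 : tensorRight Y ⋙ tensorRight X ≅ 𝟭 C :=
    (tensorRightTensor Y X).symm ≪≫ (tensoringRight C).mapIso e' ≪≫ rightUnitorNatIso C
  exact (CategoryTheory.Equivalence.mk (tensorRight X) (tensorRight Y) i1.symm i2).isEquivalence_functor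

end

lemma isPicard (X : Obj A) : (tensorLeft X).IsEquivalence ∧ (tensorRight X).IsEquivalence :=
  ⟨tensorLeft_isEquivalence (cancelIso X) (β_ _ _ ≪≫ cancelIso X),
    tensorRight_isEquivalence (cancelIso X) (β_ _ _ ≪≫ cancelIso X)⟩

end K850.FreePic
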