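import Groth.Agent.PicCat.K850.FreePic

/-!
# The universal property of the free Picard category: existence of lifts
-/

set_option autoImplicit false

universe v u v' u'

open CategoryTheory MonoidalCategory

namespace K850.FreePic

variable {A : Type u} [Category.{v} A] [MonoidalCategory A] [BraidedCategory A]
variable {P : Type u'} [Category.{v'} P] [MonoidalCategory P] [SymmetricCategory P] [IsGroupoid P]
variable (J : P → P) (c : ∀ X : P, X ⊗ J X ≅ 𝟙_ P) (Φ : A ⥤ P) [Φ.LaxBraided]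

open Functor.LaxMonoidal

/-- The lift on objects. -/
def liftObj : Obj A → P
  | .of a => Φ.obj a
  | .unit => 𝟙_ P
  | .tensor X Y => liftObj X ⊗ liftObj Y
  | .inv X => J (liftObj X)

/-- The lift on formal morphisms. -/
noncomputable def liftPre : ∀ {X Y : Obj A}, PreHom X Y → (liftObj J Φ X ⟶ liftObj J Φ Y)
  | _, _, .id X => 𝟙 (liftObj J Φ X)
  | _, _, .comp f g => liftPre f ≫ liftPre g
  | _, _, .symm f => inv (liftPre f)
  | _, _, .tensor f g => liftPre f ⊗ₘ liftPre g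
  | _, _, .assoc X Y Z => (α_ (liftObj J Φ X) (liftObj J Φ Y) (liftObj J Φ Z)).hom
  | _, _, .lunit X => (λ_ (liftObj J Φ X)).hom
  | _, _, .runit X => (ρ_ (liftObj J Φ X)).hom
  | _, _, .braid X Y => (β_ (liftObj J Φ X) (liftObj J Φ Y)).hom
  | _, _, .cancel X => (c (liftObj J Φ X)).hom
  | _, _, .map f => Φ.map f
  | _, _, .unitOf => ε Φ
  | _, _, .mulOf a b => μ Φ a b

lemma liftPre_congr {X Y : Obj A} {f g : PreHom X Y} (h : Rel f g) :
    liftPre J c Φ f = liftPre J c Φ g := by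
  induction h with
  | refl => rfl
  | symm _ _ _ ih => exact ih.symm
  | trans _ _ _ _ _ ih ih' => exact ih.trans ih'
  | comp_congr _ _ _ _ _ _ ih ih' => simp only [liftPre, ih, ih']
  | symm_congr _ _ _ ih => simp only [liftPre, ih]
  | tensor_congr _ _ _ _ _ _ ih ih' => exact congrArg₂ (fun a b => a ⊗ₘ b) ih ih'
  | id_comp => simp only [liftPre, Category.id_comp]
  | comp_id => simp only [liftPre, Category.comp_id]
  | comp_assoc => simp only [liftPre, Category.assoc]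
  | symm_comp => simp only [liftPre, IsIso.inv_hom_id]
  | comp_symm => simp only [liftPre, IsIso.hom_inv_id]
  | tensor_id X Y => exact id_tensorHom_id (liftObj J Φ X) (liftObj J Φ Y)
  | tensor_comp f₁ f₂ g₁ g₂ =>
    exact tensorHom_comp_tensorHom (liftPre J c Φ f₁) (liftPre J c Φ f₂) (liftPre J c Φ g₁)
      (liftPre J c Φ g₂)
  | assoc_nat f₁ f₂ f₃ =>
    exact associator_naturality (liftPre J c Φ f₁) (liftPre J c Φ f₂) (liftPre J c Φ f₃)
  | lunit_nat f =>
    have h := leftUnitor_naturality (liftPre J c Φ f)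
    rw [← id_tensorHom] at h
    exact h
  | runit_nat f =>
    have h := rightUnitor_naturality (liftPre J c Φ f)
    rw [← tensorHom_id] at h
    exact h
  | pentagon W X Y Z =>
    have h := MonoidalCategory.pentagon (liftObj J Φ W) (liftObj J Φ X) (liftObj J Φ Y)
      (liftObj J Φ Z)
    rw [← id_tensorHom, ← tensorHom_id] at h
    exact h
  | triangle X Y =>
    have h := MonoidalCategory.triangle (liftObj J Φ X) (liftObj J Φ Y)
    rw [← id_tensorHom, ← tensorHom_id] at h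
    exact h
  | braid_nat f g =>
    exact BraidedCategory.braiding_naturality (liftPre J c Φ f) (liftPre J c Φ g)
  | hexagon X Y Z =>
    have h := BraidedCategory.hexagon_forward (liftObj J Φ X) (liftObj J Φ Y) (liftObj J Φ Z)
    rw [← id_tensorHom, ← tensorHom_id] at h
    exact h
  | hexagon' X Y Z =>
    have h := BraidedCategory.hexagon_reverse (liftObj J Φ X) (liftObj J Φ Y) (liftObj J Φ Z)
    rw [← id_tensorHom, ← tensorHom_id] at h
    show inv (α_ (liftObj J Φ X) (liftObj J Φ Y) (liftObj J Φ Z)).hom ≫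
      (β_ (liftObj J Φ X ⊗ liftObj J Φ Y) (liftObj J Φ Z)).hom ≫
        inv (α_ (liftObj J Φ Z) (liftObj J Φ X) (liftObj J Φ Y)).hom =
      (𝟙 (liftObj J Φ X) ⊗ₘ (β_ (liftObj J Φ Y) (liftObj J Φ Z)).hom) ≫
        inv (α_ (liftObj J Φ X) (liftObj J Φ Z) (liftObj J Φ Y)).hom ≫
          ((β_ (liftObj J Φ X) (liftObj J Φ Z)).hom ⊗ₘ 𝟙 (liftObj J Φ Y))
    simp only [IsIso.Iso.inv_hom]
    exact h
  | symmetry X Y => exact SymmetricCategory.symmetry (liftObj J Φ X) (liftObj J Φ Y)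
  | map_id a => exact Φ.map_id a
  | map_comp f g => exact Φ.map_comp f g
  | mul_nat f g => exact μ_natural Φ f g
  | mul_assoc x y z =>
    have h := associativity Φ x y z
    rw [← id_tensorHom, ← tensorHom_id] at h
    exact h
  | mul_lunit x =>
    have h := left_unitality Φ x
    rw [← tensorHom_id] at h
    exact h
  | mul_runit x =>
    have h := right_unitality Φ x
    rw [← id_tensorHom] at h
    exact h
  | mul_braid x y => exact Functor.LaxBraided.braided (F := Φ) x y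

/-- The lift on morphisms. -/
noncomputable def liftMor {X Y : Obj A} (f : X ⟶ Y) : liftObj J Φ X ⟶ liftObj J Φ Y :=
  Quotient.lift (s := homSetoid X Y) (liftPre J c Φ) (fun _ _ h => liftPre_congr J c Φ h) f

/-- The lift, as a functor. -/
noncomputable def lift : Obj A ⥤ P where
  obj X := liftObj J Φ X
  map f := liftMor J c Φ f
  map_id X := rfl
  map_comp f g := by
    obtain ⟨f, rfl⟩ := hm_surj f
    obtain ⟨g, rfl⟩ := hm_surj g
    rfl

lemma lift_map_hm {X Y : Obj A} (f : PreHom X Y) : (lift J c Φ).map (hm f) = liftPre J c Φ f := rfl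

lemma lift_map_tensor {X₁ Y₁ X₂ Y₂ : Obj A} (f : X₁ ⟶ Y₁) (g : X₂ ⟶ Y₂) :
    (lift J c Φ).map (f ⊗ₘ g) = ((lift J c Φ).map f ⊗ₘ (lift J c Φ).map g) := by
  obtain ⟨f, rfl⟩ := hm_surj f
  obtain ⟨g, rfl⟩ := hm_surj g
  rfl

noncomputable instance : (lift J c Φ).LaxMonoidal where
  ε := 𝟙 (𝟙_ P)
  μ X Y := 𝟙 (liftObj J Φ X ⊗ liftObj J Φ Y)
  μ_natural_left f X := by
    have h : (lift J c Φ).map (f ▷ X) = (lift J c Φ).map f ▷ (lift J c Φ).obj X := by
      rw [← tensorHom_id, lift_map_tensor, Functor.map_id, tensorHom_id]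
    exact (Category.comp_id _).trans (h.symm.trans (Category.id_comp _).symm)
  μ_natural_right X f := by
    have h : (lift J c Φ).map (X ◁ f) = (lift J c Φ).obj X ◁ (lift J c Φ).map f := by
      rw [← id_tensorHom, lift_map_tensor, Functor.map_id, id_tensorHom]
    exact (Category.comp_id _).trans (h.symm.trans (Category.id_comp _).symm)
  associativity X Y Z := by
    show 𝟙 (liftObj J Φ X ⊗ liftObj J Φ Y) ▷ liftObj J Φ Z ≫
      𝟙 ((liftObj J Φ X ⊗ liftObj J Φ Y) ⊗ liftObj J Φ Z) ≫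
      (α_ (liftObj J Φ X) (liftObj J Φ Y) (liftObj J Φ Z)).hom =
      (α_ (liftObj J Φ X) (liftObj J Φ Y) (liftObj J Φ Z)).hom ≫
      liftObj J Φ X ◁ 𝟙 (liftObj J Φ Y ⊗ liftObj J Φ Z) ≫
      𝟙 (liftObj J Φ X ⊗ (liftObj J Φ Y ⊗ liftObj J Φ Z))
    simp
  left_unitality X := by
    show (λ_ (liftObj J Φ X)).hom = 𝟙 (𝟙_ P) ▷ liftObj J Φ X ≫ 𝟙 (𝟙_ P ⊗ liftObj J Φ X) ≫
      (λ_ (liftObj J Φ X)).hom
    simp
  right_unitality X := by
    show (ρ_ (liftObj J Φ X)).hom = liftObj J Φ X ◁ 𝟙 (𝟙_ P) ≫ 𝟙 (liftObj J Φ X ⊗ 𝟙_ P) ≫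
      (ρ_ (liftObj J Φ X)).hom
    simp

noncomputable instance : (lift J c Φ).LaxBraided where
  braided X Y := by
    show 𝟙 (liftObj J Φ X ⊗ liftObj J Φ Y) ≫ (β_ (liftObj J Φ X) (liftObj J Φ Y)).hom =
      (β_ (liftObj J Φ X) (liftObj J Φ Y)).hom ≫ 𝟙 (liftObj J Φ Y ⊗ liftObj J Φ X)
    simp

/-- The lift restricts to the given functor. -/
noncomputable def liftIso : incl A ⋙ lift J c Φ ≅ Φ :=
  NatIso.ofComponents (fun a => Iso.refl (Φ.obj a)) (by
    intro a b f
    exact (Category.comp_id _).trans (Category.id_comp _).symm)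

lemma liftIso_isMonoidal : NatTrans.IsMonoidal (liftIso J c Φ).hom where
  unit := by
    show (𝟙 (𝟙_ P) ≫ ε Φ) ≫ 𝟙 (Φ.obj (𝟙_ A)) = ε Φ
    simp
  tensor a b := by
    show (𝟙 (Φ.obj a ⊗ Φ.obj b) ≫ μ Φ a b) ≫ 𝟙 (Φ.obj (a ⊗ b)) =
      (𝟙 (Φ.obj a) ⊗ₘ 𝟙 (Φ.obj b)) ≫ μ Φ a b
    simp

end K850.FreePic
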