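import Groth.Agent.PicCat.K850.FreePic

/-!
# The universal property of the free Picard category: monoidal transformations
-/

set_option autoImplicit false

universe v u v' u'

open CategoryTheory MonoidalCategory

namespace K850.FreePic

variable {A : Type u} [Category.{v} A] [MonoidalCategory A] [BraidedCategory A]
variable {P : Type u'} [Category.{v'} P] [MonoidalCategory P] [SymmetricCategory P] [IsGroupoid P]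
variable (hP : ∀ X : P, (tensorLeft X).IsEquivalence ∧ (tensorRight X).IsEquivalence)

open Functor.LaxMonoidal

include hP in
omit [SymmetricCategory P] [IsGroupoid P] in
lemma whisker_bij (X Y Z : P) : Function.Bijective (fun s : Y ⟶ Z => X ◁ s) := by
  have := (hP X).1
  exact (Functor.FullyFaithful.ofFullyFaithful (tensorLeft X)).map_bijective Y Z

/-- Cancel a whiskering. -/
noncomputable def unwhisker (X : P) {Y Z : P} (k : X ⊗ Y ⟶ X ⊗ Z) : Y ⟶ Z :=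
  ((whisker_bij hP X Y Z).2 k).choose

omit [SymmetricCategory P] [IsGroupoid P] in
lemma unwhisker_spec (X : P) {Y Z : P} (k : X ⊗ Y ⟶ X ⊗ Z) : X ◁ unwhisker hP X k = k :=
  ((whisker_bij hP X Y Z).2 k).choose_spec

variable (Ψ Ψ' : Obj A ⥤ P) [Ψ.LaxBraided] [Ψ'.LaxBraided]
  (τ : incl A ⋙ Ψ ⟶ incl A ⋙ Ψ')

/-- The components of the extension of a monoidal transformation. -/
noncomputable def tr : ∀ X : Obj A, Ψ.obj X ⟶ Ψ'.obj X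
  | .of a => τ.app a
  | .unit => inv (ε Ψ) ≫ ε Ψ'
  | .tensor X Y => inv (μ Ψ X Y) ≫ (tr X ⊗ₘ tr Y) ≫ μ Ψ' X Y
  | .inv X => unwhisker hP (Ψ'.obj X) (inv (tr X ▷ Ψ.obj X.inv) ≫ μ Ψ X X.inv ≫
      Ψ.map (hm (PreHom.cancel X)) ≫ (inv (ε Ψ) ≫ ε Ψ') ≫ inv (Ψ'.map (hm (PreHom.cancel X))) ≫
      inv (μ Ψ' X X.inv))

lemma tr_unit : ε Ψ ≫ tr hP Ψ Ψ' τ (𝟙_ (Obj A)) = ε Ψ' := by
  show ε Ψ ≫ inv (ε Ψ) ≫ ε Ψ' = ε Ψ'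
  simp

lemma tr_tensor (X Y : Obj A) : μ Ψ X Y ≫ tr hP Ψ Ψ' τ (X ⊗ Y) =
    (tr hP Ψ Ψ' τ X ⊗ₘ tr hP Ψ Ψ' τ Y) ≫ μ Ψ' X Y := by
  show μ Ψ X Y ≫ inv (μ Ψ X Y) ≫ (tr hP Ψ Ψ' τ X ⊗ₘ tr hP Ψ Ψ' τ Y) ≫ μ Ψ' X Y = _
  simp

lemma tr_inv (X : Obj A) : (tr hP Ψ Ψ' τ X ⊗ₘ tr hP Ψ Ψ' τ X.inv) ≫ μ Ψ' X X.inv ≫
    Ψ'.map (hm (PreHom.cancel X)) =
    μ Ψ X X.inv ≫ Ψ.map (hm (PreHom.cancel X)) ≫ (inv (ε Ψ) ≫ ε Ψ') := by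
  rw [MonoidalCategory.tensorHom_def]
  have h : Ψ'.obj X ◁ tr hP Ψ Ψ' τ X.inv = _ := unwhisker_spec hP (Ψ'.obj X) _
  rw [h]
  simp

omit [MonoidalCategory P] [SymmetricCategory P] [IsGroupoid P] in
lemma map_hm_symm {X Y : Obj A} (F : Obj A ⥤ P) (f : PreHom X Y) :
    F.map (hm f.symm) = inv (F.map (hm f)) := by
  apply IsIso.eq_inv_of_hom_inv_id
  rw [← Functor.map_comp]
  have h : hm f ≫ hm f.symm = 𝟙 X := (isoOf f).hom_inv_id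
  rw [h, Functor.map_id]

variable [NatTrans.IsMonoidal τ]

lemma tr_nat {X Y : Obj A} (f : PreHom X Y) :
    Ψ.map (hm f) ≫ tr hP Ψ Ψ' τ Y = tr hP Ψ Ψ' τ X ≫ Ψ'.map (hm f) := by
  induction f with
  | id X => rw [hm_id, Functor.map_id, Functor.map_id, Category.id_comp, Category.comp_id]
  | comp f g ih ih' =>
    rw [hm_comp, Functor.map_comp, Functor.map_comp, Category.assoc, ih', ← Category.assoc, ih,
      Category.assoc]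
  | symm f ih =>
    rw [map_hm_symm, map_hm_symm, IsIso.eq_comp_inv, Category.assoc, IsIso.inv_comp_eq, ih]
  | @tensor X₁ Y₁ X₂ Y₂ f g ih ih' =>
    rw [← cancel_epi (μ Ψ X₁ X₂)]
    show μ Ψ X₁ X₂ ≫ Ψ.map (hm f ⊗ₘ hm g) ≫ tr hP Ψ Ψ' τ (Y₁ ⊗ Y₂) =
      μ Ψ X₁ X₂ ≫ tr hP Ψ Ψ' τ (X₁ ⊗ X₂) ≫ Ψ'.map (hm f ⊗ₘ hm g)
    rw [← μ_natural_assoc, tr_tensor, ← Category.assoc (μ Ψ X₁ X₂), tr_tensor, Category.assoc,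
      ← μ_natural, tensorHom_comp_tensorHom_assoc, tensorHom_comp_tensorHom_assoc, ih, ih']
  | assoc X Y Z =>
    rw [← cancel_epi (μ Ψ (X ⊗ Y) Z), ← cancel_epi (μ Ψ X Y ▷ Ψ.obj Z)]
    show μ Ψ X Y ▷ Ψ.obj Z ≫ μ Ψ (X ⊗ Y) Z ≫ Ψ.map (α_ X Y Z).hom ≫ tr hP Ψ Ψ' τ (X ⊗ (Y ⊗ Z)) =
      μ Ψ X Y ▷ Ψ.obj Z ≫ μ Ψ (X ⊗ Y) Z ≫ tr hP Ψ Ψ' τ ((X ⊗ Y) ⊗ Z) ≫ Ψ'.map (α_ X Y Z).hom
    rw [associativity_assoc, tr_tensor, ← Category.assoc (μ Ψ (X ⊗ Y) Z), tr_tensor,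
      ← tensorHom_id, ← id_tensorHom, Category.assoc, tensorHom_comp_tensorHom_assoc,
      tensorHom_comp_tensorHom_assoc, tr_tensor, tr_tensor, Category.id_comp, Category.id_comp]
    have h1 : (tr hP Ψ Ψ' τ X ⊗ₘ (tr hP Ψ Ψ' τ Y ⊗ₘ tr hP Ψ Ψ' τ Z) ≫ μ Ψ' Y Z) =
        (tr hP Ψ Ψ' τ X ⊗ₘ (tr hP Ψ Ψ' τ Y ⊗ₘ tr hP Ψ Ψ' τ Z)) ≫ Ψ'.obj X ◁ μ Ψ' Y Z := by
      rw [← id_tensorHom, tensorHom_comp_tensorHom, Category.comp_id]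
    have h2 : ((tr hP Ψ Ψ' τ X ⊗ₘ tr hP Ψ Ψ' τ Y) ≫ μ Ψ' X Y ⊗ₘ tr hP Ψ Ψ' τ Z) =
        ((tr hP Ψ Ψ' τ X ⊗ₘ tr hP Ψ Ψ' τ Y) ⊗ₘ tr hP Ψ Ψ' τ Z) ≫ μ Ψ' X Y ▷ Ψ'.obj Z := by
      rw [← tensorHom_id, tensorHom_comp_tensorHom, Category.comp_id]
    rw [h1, h2, Category.assoc, Category.assoc, associativity, ← associator_naturality_assoc]
  | lunit X =>
    rw [← cancel_epi (μ Ψ (𝟙_ (Obj A)) X), ← cancel_epi (ε Ψ ▷ Ψ.obj X)]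
    show ε Ψ ▷ Ψ.obj X ≫ μ Ψ (𝟙_ (Obj A)) X ≫ Ψ.map (λ_ X).hom ≫ tr hP Ψ Ψ' τ X =
      ε Ψ ▷ Ψ.obj X ≫ μ Ψ (𝟙_ (Obj A)) X ≫ tr hP Ψ Ψ' τ (𝟙_ (Obj A) ⊗ X) ≫ Ψ'.map (λ_ X).hom
    rw [← left_unitality_assoc, ← Category.assoc (μ Ψ (𝟙_ (Obj A)) X), tr_tensor, Category.assoc,
      ← tensorHom_id, tensorHom_comp_tensorHom_assoc, tr_unit, Category.id_comp]
    have h1 : (ε Ψ' ⊗ₘ tr hP Ψ Ψ' τ X) = (𝟙_ P) ◁ tr hP Ψ Ψ' τ X ≫ ε Ψ' ▷ Ψ'.obj X := by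
      rw [MonoidalCategory.tensorHom_def']
    rw [h1, Category.assoc, ← left_unitality, leftUnitor_naturality]
  | runit X =>
    rw [← cancel_epi (μ Ψ X (𝟙_ (Obj A))), ← cancel_epi (Ψ.obj X ◁ ε Ψ)]
    show Ψ.obj X ◁ ε Ψ ≫ μ Ψ X (𝟙_ (Obj A)) ≫ Ψ.map (ρ_ X).hom ≫ tr hP Ψ Ψ' τ X =
      Ψ.obj X ◁ ε Ψ ≫ μ Ψ X (𝟙_ (Obj A)) ≫ tr hP Ψ Ψ' τ (X ⊗ 𝟙_ (Obj A)) ≫ Ψ'.map (ρ_ X).hom
    rw [← right_unitality_assoc, ← Category.assoc (μ Ψ X (𝟙_ (Obj A))), tr_tensor, Category.assoc,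
      ← id_tensorHom, tensorHom_comp_tensorHom_assoc, tr_unit, Category.id_comp]
    have h1 : (tr hP Ψ Ψ' τ X ⊗ₘ ε Ψ') = tr hP Ψ Ψ' τ X ▷ (𝟙_ P) ≫ Ψ'.obj X ◁ ε Ψ' := by
      rw [MonoidalCategory.tensorHom_def]
    rw [h1, Category.assoc, ← right_unitality, rightUnitor_naturality]
  | braid X Y =>
    rw [← cancel_epi (μ Ψ X Y)]
    show μ Ψ X Y ≫ Ψ.map (β_ X Y).hom ≫ tr hP Ψ Ψ' τ (Y ⊗ X) =
      μ Ψ X Y ≫ tr hP Ψ Ψ' τ (X ⊗ Y) ≫ Ψ'.map (β_ X Y).hom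
    rw [Functor.LaxBraided.braided_assoc, tr_tensor, ← Category.assoc (μ Ψ X Y), tr_tensor,
      Category.assoc, Functor.LaxBraided.braided, BraidedCategory.braiding_naturality_assoc]
  | cancel X =>
    rw [← cancel_epi (μ Ψ X X.inv)]
    show μ Ψ X X.inv ≫ Ψ.map (hm (PreHom.cancel X)) ≫ (inv (ε Ψ) ≫ ε Ψ') =
      μ Ψ X X.inv ≫ tr hP Ψ Ψ' τ (X ⊗ X.inv) ≫ Ψ'.map (hm (PreHom.cancel X))
    rw [← tr_inv hP Ψ Ψ' τ, ← Category.assoc (μ Ψ X X.inv), tr_tensor, Category.assoc]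
  | map f => exact τ.naturality f
  | unitOf =>
    rw [← cancel_epi (ε Ψ)]
    have h := NatTrans.IsMonoidal.unit (τ := τ)
    rw [Functor.LaxMonoidal.comp_ε, Functor.LaxMonoidal.comp_ε, Category.assoc] at h
    show ε Ψ ≫ Ψ.map (ε (incl A)) ≫ τ.app (𝟙_ A) = ε Ψ ≫ tr hP Ψ Ψ' τ (𝟙_ (Obj A)) ≫
      Ψ'.map (ε (incl A))
    rw [h, ← Category.assoc, tr_unit]
  | mulOf a b =>
    rw [← cancel_epi (μ Ψ (Obj.of a) (Obj.of b))]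
    have h := NatTrans.IsMonoidal.tensor (τ := τ) a b
    rw [Functor.LaxMonoidal.comp_μ, Functor.LaxMonoidal.comp_μ, Category.assoc] at h
    have h2 := tr_tensor hP Ψ Ψ' τ (Obj.of a) (Obj.of b)
    show μ Ψ (Obj.of a) (Obj.of b) ≫ Ψ.map (μ (incl A) a b) ≫ τ.app (a ⊗ b) =
      μ Ψ (Obj.of a) (Obj.of b) ≫ tr hP Ψ Ψ' τ (Obj.of a ⊗ Obj.of b) ≫ Ψ'.map (μ (incl A) a b)
    rw [← Category.assoc (μ Ψ (Obj.of a) (Obj.of b)) (tr hP Ψ Ψ' τ (Obj.of a ⊗ Obj.of b)), h2,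
      Category.assoc]
    exact h

/-- The extension of a monoidal transformation. -/
noncomputable def trans : Ψ ⟶ Ψ' where
  app := tr hP Ψ Ψ' τ
  naturality X Y f := by
    obtain ⟨f, rfl⟩ := hm_surj f
    exact tr_nat hP Ψ Ψ' τ f

lemma trans_isMonoidal : NatTrans.IsMonoidal (trans hP Ψ Ψ' τ) where
  unit := tr_unit hP Ψ Ψ' τ
  tensor X Y := tr_tensor hP Ψ Ψ' τ X Y

lemma trans_whisker : Functor.whiskerLeft (incl A) (trans hP Ψ Ψ' τ) = τ := by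
  ext a
  rfl

lemma trans_unique (θ : Ψ ⟶ Ψ') (hθ : NatTrans.IsMonoidal θ)
    (hw : Functor.whiskerLeft (incl A) θ = τ) : θ = trans hP Ψ Ψ' τ := by
  have h1 : θ.app (𝟙_ (Obj A)) = tr hP Ψ Ψ' τ (𝟙_ (Obj A)) := by
    rw [← cancel_epi (ε Ψ), tr_unit]
    exact hθ.unit
  ext X
  show θ.app X = tr hP Ψ Ψ' τ X
  induction X with
  | of a => exact congrArg (fun t : incl A ⋙ Ψ ⟶ incl A ⋙ Ψ' => t.app a) hw
  | unit => exact h1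
  | tensor X Y ih ih' =>
    rw [← cancel_epi (μ Ψ X Y)]
    refine (hθ.tensor X Y).trans ?_
    rw [ih, ih']
    exact (tr_tensor hP Ψ Ψ' τ X Y).symm
  | inv X ih =>
    apply (whisker_bij hP (Ψ'.obj X) _ _).1
    show Ψ'.obj X ◁ θ.app X.inv = Ψ'.obj X ◁ tr hP Ψ Ψ' τ X.inv
    rw [← cancel_epi (tr hP Ψ Ψ' τ X ▷ Ψ.obj X.inv), ← MonoidalCategory.tensorHom_def,
      ← cancel_mono (μ Ψ' X X.inv), ← cancel_mono (Ψ'.map (hm (PreHom.cancel X)))]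
    rw [← ih]
    have h2 := hθ.tensor X X.inv
    have h3 := θ.naturality (hm (PreHom.cancel X))
    have h4 := tr_nat hP Ψ Ψ' τ (PreHom.cancel X)
    have h5 := tr_tensor hP Ψ Ψ' τ X X.inv
    have h6 : μ Ψ X X.inv ≫ θ.app (X ⊗ X.inv) ≫ Ψ'.map (hm (PreHom.cancel X)) =
        μ Ψ X X.inv ≫ tr hP Ψ Ψ' τ (X ⊗ X.inv) ≫ Ψ'.map (hm (PreHom.cancel X)) := by
      have h7 : θ.app (X ⊗ X.inv) ≫ Ψ'.map (hm (PreHom.cancel X)) =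
          tr hP Ψ Ψ' τ (X ⊗ X.inv) ≫ Ψ'.map (hm (PreHom.cancel X)) := by
        refine h3.symm.trans (Eq.trans ?_ h4)
        exact congrArg (fun t => Ψ.map (hm (PreHom.cancel X)) ≫ t) h1
      rw [h7]
    rw [← Category.assoc, ← Category.assoc, h2, h5, ← ih] at h6
    rw [MonoidalCategory.tensorHom_def, MonoidalCategory.tensorHom_def] at h6
    rw [MonoidalCategory.tensorHom_def]
    exact h6

end K850.FreePic
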